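import Cfsg.Agent.Lib.FrobSystem.Reduction
import Cfsg.Agent.Lib.Zassenhaus.AbelianKernel
import Cfsg.Agent.Lib.SuzukiZass.Main
import Cfsg.Agent.S0338
import Cfsg.Agent.S0346
import Cfsg.Agent.EqLemmas

/-!
Classification of non-solvable groups with a Frobenius system (S4235), given the identification
of Suzuki groups among simple Zassenhaus groups (helper38).

* `simple_zassenhaus_of_tiHyp`, `classify_tiHyp`, `classify`
-/

set_option autoImplicit false
set_option linter.style.haveILetI false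

open MulAction

namespace Cfsg.Agent.FrobSystem

open InvertedOdd

universe u

variable {G : Type u} [Group G] [Finite G]

/-- `SL₂ = PSL₂` in characteristic `2`. -/
theorem sl_equiv_psl (K : Type) [Field K] [CharP K 2] :
    Nonempty (Matrix.SpecialLinearGroup (Fin 2) K ≃* Matrix.ProjectiveSpecialLinearGroup (Fin 2) K) := by
  have hcen : Subgroup.center (Matrix.SpecialLinearGroup (Fin 2) K) = ⊥ := by
    rw [Subgroup.eq_bot_iff_forall]
    intro w hw
    obtain ⟨r, hr, he⟩ := Matrix.SpecialLinearGroup.mem_center_iff.1 hw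
    have hr1 : r = 1 := by
      have h0 : (r - 1) * (r - 1) = 0 := by
        linear_combination (by simpa using hr : r ^ 2 = 1) + (1 - r) * CharTwo.two_eq_zero (R := K)
      exact sub_eq_zero.1 (mul_self_eq_zero.1 h0)
    exact Subtype.ext (by rw [← he, hr1]; simp)
  exact ⟨MulEquiv.ofBijective (QuotientGroup.mk' _)
    ⟨(MonoidHom.ker_eq_bot_iff _).1 (by rw [QuotientGroup.ker_mk', hcen]),
      QuotientGroup.mk'_surjective _⟩⟩

/-- A sharply triply transitive group of degree `2^f + 1` is `SL₂(2^f)`. -/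
theorem sharp_sl2 {Ω : Type*} [MulAction G Ω] [Finite Ω] [FaithfulSMul G Ω] {f : ℕ} (hf : 1 ≤ f)
    (hcard : Nat.card Ω = 2 ^ f + 1) (h3 : MulAction.IsMultiplyPretransitive G Ω 3)
    (hsharp : ∀ x : Fin 3 ↪ Ω, stabilizer G x = ⊥) :
    ∃ (K : Type) (_ : Field K) (_ : Fintype K), Fintype.card K = 2 ^ f ∧
      Nonempty (G ≃* Matrix.SpecialLinearGroup (Fin 2) K) := by
  classical
  have := Fintype.ofFinite Ω
  let Φ := MulAction.toPermHom G Ω
  have hinj : Function.Injective Φ := MulAction.toPerm_injective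
  haveI := h3
  have h3' : MulAction.IsMultiplyPretransitive Φ.range Ω 3 := by
    refine ⟨fun x y => ?_⟩
    obtain ⟨g, hg⟩ := MulAction.exists_smul_eq G x y
    exact ⟨⟨Φ g, g, rfl⟩, Function.Embedding.ext fun i => by rw [← hg]; rfl⟩
  have hsharp' : ∀ x : Fin 3 ↪ Ω, stabilizer Φ.range x = ⊥ := by
    intro x
    rw [Subgroup.eq_bot_iff_forall]
    rintro ⟨_, g, rfl⟩ hg
    have hg' : g ∈ stabilizer G x := by
      rw [mem_stabilizer_iff] at hg ⊢
      exact Function.Embedding.ext fun i => congrArg (fun y : Fin 3 ↪ Ω => y i) hg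
    rw [hsharp x, Subgroup.mem_bot] at hg'
    exact Subtype.ext (by rw [hg']; exact map_one Φ)
  obtain ⟨K, iK, iT, hK, ⟨e⟩⟩ :=
    S0727.result hf (by rwa [← Nat.card_eq_fintype_card]) Φ.range h3' hsharp'
  haveI := Fact.mk Nat.prime_two
  haveI : CharP K 2 := charP_of_card_eq_prime_pow hK
  obtain ⟨e2⟩ := SuzukiZass.pgl_equiv_psl K (ringChar.eq K 2)
  obtain ⟨e3⟩ := sl_equiv_psl K
  exact ⟨K, iK, iT, hK, ⟨(((MonoidHom.ofInjective hinj).trans e).trans e2).trans e3.symm⟩⟩

/-- A group satisfying `TIHyp` is `SL₂(2^n)` or carries a Suzuki-type Zassenhaus set-up. -/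
theorem classify_tiHyp (hs : NoSolvableNormal G) {M F : Subgroup G} (h : TIHyp M F) :
    IsSimpleGroup G ∧
      ((∃ (K : Type) (_ : Field K) (_ : Fintype K), (∃ n : ℕ, 2 ≤ n ∧ Fintype.card K = 2 ^ n) ∧
          Nonempty (G ≃* Matrix.SpecialLinearGroup (Fin 2) K)) ∨
        Nonempty (SuzukiZass.Setup G (G ⧸ M))) := by
  classical
  haveI := Fintype.ofFinite (G ⧸ M)
  have hZ := h.zassenhaus hs
  haveI := hZ.1
  have hodd := h.odd_card
  haveI hsimple : IsSimpleGroup G := S0338.result hZ (by rwa [← Nat.card_eq_fintype_card])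
  refine ⟨hsimple, ?_⟩
  obtain ⟨b, hb⟩ := h.exists_ne_one_coset
  set d := Nat.card ↥(stabilizer G ((1 : G) : G ⧸ M) ⊓ stabilizer G b) with hd_def
  have hd2 : 2 ≤ d := by
    have := h.card_pair_eq hb
    rw [hd_def]
    exact (h.two_le hs).trans this.symm.le
  have hn3 : 3 ≤ Nat.card (G ⧸ M) := Zassenhaus.three_le_card hZ
  obtain ⟨k, hk⟩ := Zassenhaus.card_pair_dvd_sub_two hZ hb.symm
  rw [← hd_def] at hk
  have hodd2 : Odd (Nat.card (G ⧸ M) - 2) := by
    obtain ⟨j, hj⟩ := hodd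
    exact ⟨j - 1, by omega⟩
  have hdodd : Odd d := by
    rw [hk] at hodd2
    exact (Nat.odd_mul.1 hodd2).1
  have hFcard : Nat.card F + 1 = Fintype.card (G ⧸ M) := by
    rw [← Nat.card_eq_fintype_card]; exact h.card_omega hs
  have hFa : F ≤ stabilizer G ((1 : G) : G ⧸ M) := fun x hx => TIHyp.smul_one_coset.2 (h.le hx)
  have hFfix : ∀ x ∈ F, x ≠ 1 → ∀ c : G ⧸ M, x • c = c → c = ((1 : G) : G ⧸ M) :=
    fun x hx hx1 c hc => h.fix_unique hx hx1 hc
  rcases Zassenhaus.feit_inequality hZ hb.symm (Fintype.card (G ⧸ M) - 1) d (by omega) hd_def.symm hdodd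
    F hFa hFcard hFfix with hle | ⟨h2, hna, -⟩
  · left
    have hk1 : k = 1 := by
      rw [← Nat.card_eq_fintype_card] at hle
      have hk0 : Odd k := by rw [hk] at hodd2; exact (Nat.odd_mul.1 hodd2).2
      obtain ⟨j, rfl⟩ := hk0
      rcases j with _ | j
      · rfl
      · have : d * 3 ≤ d * (2 * (j + 1) + 1) := Nat.mul_le_mul le_rfl (by omega)
        omega
    obtain ⟨h3, hsharp⟩ := Zassenhaus.sharply_three_of_card hZ hb.symm (by rw [← hd_def, hk, hk1, mul_one])
    obtain ⟨p, f, hp, hf, hpf⟩ := (isPrimePow_nat_iff _).1 (S0346.result hZ)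
    rw [← Nat.card_eq_fintype_card] at hpf
    obtain ⟨j, hj⟩ := hodd
    have hp2 : p = 2 := by
      have h2' : 2 ∣ p ^ f := by rw [hpf]; omega
      exact ((Nat.prime_dvd_prime_iff_eq Nat.prime_two hp).1 (Nat.prime_two.dvd_of_dvd_pow h2')).symm
    subst hp2
    obtain ⟨K, iK, iT, hK, hiso⟩ := sharp_sl2 hf (by omega) h3 hsharp
    refine ⟨K, iK, iT, ⟨f, ?_, hK⟩, hiso⟩
    by_contra hf2
    obtain rfl : f = 1 := by omega
    rw [hk1, mul_one] at hk
    omega
  · right
    obtain ⟨x, y, hxy⟩ := hna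
    exact ⟨⟨hZ, _, b, hb.symm, F, hFa, fun t ht u hu => h.normal t (TIHyp.smul_one_coset.1 ht) u hu,
      by rw [Nat.card_eq_fintype_card (α := G ⧸ M)]; omega, hFfix, h2,
      x, x.2, y, y.2, fun e => hxy (Subtype.ext e)⟩⟩

/-- The statement of S4235, from the identification of the Suzuki-type set-up. -/
theorem classify
    (hSz : ∀ (Ω : Type u) [MulAction G Ω] [Finite Ω] [IsSimpleGroup G],
      SuzukiZass.Setup G Ω → Cfsg.Lie.IsoSuzuki G)
    (F : Subgroup G → Subgroup G) (hF : IsFrobSystem F) :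
    Group.IsSolvable G ∨
      (∃ (K : Type) (_ : Field K) (_ : Fintype K), (∃ n : ℕ, 2 ≤ n ∧ Fintype.card K = 2 ^ n) ∧
        Nonempty (G ≃* Matrix.SpecialLinearGroup (Fin 2) K)) ∨
      Cfsg.Lie.IsoSuzuki G := by
  by_cases hG : Group.IsSolvable G
  · exact Or.inl hG
  refine Or.inr ?_
  obtain ⟨M, F', h⟩ := exists_tiHyp hF hG
  obtain ⟨hsimple, hc⟩ := classify_tiHyp (noSolvableNormal hF hG) h
  rcases hc with hc | ⟨⟨S⟩⟩
  · exact Or.inl hc
  · haveI := hsimple
    exact Or.inr (hSz _ S)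

end Cfsg.Agent.FrobSystem
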