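import Cfsg.Agent.Lib.SuzukiZass.Main
import Cfsg.Agent.Lib.SuzukiRankOne.Suzuki.Main

/-!
A simple group with a Suzuki-type Zassenhaus set-up is a Suzuki group (helper38): the set-up is a
rank one set-up, so `suzukiShape` applies.

* `SuzukiZass.Setup.isoSuzuki`
-/

set_option autoImplicit false
set_option linter.style.haveILetI false

open MulAction

namespace Cfsg.Agent.SuzukiZass

universe u v

variable {G : Type u} {Ω : Type v} [Group G] [Finite G] [MulAction G Ω] [Finite Ω]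

namespace Setup

variable (S : Setup G Ω)

include S

theorem exists_rankOne : ∃ t : G, Cfsg.IsRankOneSetup G Ω S.a t S.U := by
  obtain ⟨t, ht⟩ := S.exists_swap
  have htt : t * t = 1 := by
    have := pow_orderOf_eq_one t
    rwa [ht.1, pow_two] at this
  have hta : t • S.a = S.b := ht.2
  refine ⟨t, S.hZ.2.1, htt, fun h => by simpa [h] using ht.1, fun h => S.hab ?_, S.hUa, S.hUn, ?_, ?_,
    S.even_h, ?_⟩
  · rw [← hta]; exact (mem_stabilizer_iff.1 h).symm
  · rw [hta, Subgroup.eq_bot_iff_forall]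
    rintro u ⟨hu, hub⟩
    by_contra hu1
    exact S.hab (S.hfix u hu hu1 S.b hub).symm
  · rw [hta]
    refine le_antisymm (sup_le S.hUa inf_le_left) fun g hg => ?_
    obtain ⟨p, hp⟩ := S.stabEquiv.surjective ⟨g, hg⟩
    have e : (p.1 : G) * p.2 = g := by
      rw [← S.stabEquiv_apply, hp]
    rw [← e]
    exact mul_mem (Subgroup.mem_sup_right p.1.2) (Subgroup.mem_sup_left p.2.2)
  · rw [hta]; exact S.odd_e

theorem param_eq : SuzukiRankOne.param G S.a = S.q := by
  rw [SuzukiRankOne.param, q, ← S.i_eq, i]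
  congr 1
  refine Nat.card_congr (Equiv.subtypeEquivRight fun x => ?_)
  constructor
  · rintro ⟨hx, hx1, hxx⟩
    exact ⟨orderOf_eq_prime (by rw [pow_two, hxx]) hx1, hx⟩
  · rintro ⟨hx, hxa⟩
    have := pow_orderOf_eq_one x
    rw [hx, pow_two] at this
    exact ⟨hxa, fun h => by simp [h] at hx, this⟩

theorem twoInvolutions : SuzukiRankOne.TwoInvolutions G := by
  classical
  have h3 : 3 ≤ Nat.card {z : G // z ∈ S.Z ∧ z ≠ 1} := by rw [S.card_Z_ne]; exact S.three_le_e
  haveI : Nontrivial {z : G // z ∈ S.Z ∧ z ≠ 1} :=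
    Finite.one_lt_card_iff_nontrivial.1 (by omega)
  obtain ⟨⟨x, hx, hx1⟩, ⟨y, hy, hy1⟩, hne⟩ := exists_pair_ne {z : G // z ∈ S.Z ∧ z ≠ 1}
  exact ⟨x, y, hx1, hy1, fun e => hne (Subtype.ext e), (S.mem_Z.1 hx).2, (S.mem_Z.1 hy).2,
    S.Z_central hy (S.Z_le hx)⟩

/-- A simple group with such a set-up is a Suzuki group. -/
theorem isoSuzuki [IsSimpleGroup G] : Cfsg.Lie.IsoSuzuki G := by
  obtain ⟨t, ht⟩ := S.exists_rankOne
  haveI := S.hZ.1
  obtain ⟨n, -, -, -, hh⟩ := S.structure_main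
  obtain ⟨L, hL, hodd, F, iF, iT, m, hm, hF, ⟨e⟩⟩ :=
    SuzukiRankOne.Suzuki.suzukiShape G Ω S.a t S.U ht S.twoInvolutions S.hU2
      (by
        obtain ⟨x, hx, y, hy, hxy⟩ := S.hna
        exact fun hc => hxy (congrArg Subtype.val (hc.is_comm.comm ⟨x, hx⟩ ⟨y, hy⟩)))
      (by rw [S.param_eq]; exact hh)
  have hLtop : L = ⊤ := by
    rcases hL.eq_bot_or_eq_top with h | h
    · exfalso
      rw [h, Subgroup.index_bot] at hodd
      refine (Nat.not_even_iff_odd.2 hodd) ?_
      rw [S.card_G]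
      exact ((S.even_h).mul_right S.e).mul_left _
    · exact h
  subst hLtop
  exact ⟨F, iF, iT, m, hm, hF, ⟨Subgroup.topEquiv.symm.trans e⟩⟩

end Setup

end Cfsg.Agent.SuzukiZass
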