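import Cfsg.Agent.Lib.FrobSystem.Transitive
import Cfsg.Agent.Lib.Signalizer.Basic

/-!
Frobenius systems on maximal solvable subgroups: in a non-solvable group some Frobenius
kernel contains an involution (helper38).
-/

set_option autoImplicit false

namespace Cfsg.Agent.FrobSystem

open InvertedOdd
open scoped Pointwise

universe u

variable {G : Type u} [Group G] [Finite G]

/-- Solvable and not properly contained in a solvable subgroup. -/
abbrev IsMaxSolv (M : Subgroup G) : Prop :=
  Group.IsSolvable M ∧ ∀ M' : Subgroup G, M < M' → ¬ Group.IsSolvable M'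

/-- The hypothesis on the system. -/
def IsFrobSystem (F : Subgroup G → Subgroup G) : Prop :=
  ∀ M : Subgroup G, IsMaxSolv M →
    F M ≤ M ∧ M ≤ Subgroup.normalizer (F M : Set G) ∧
      (∀ a ∈ M, a ∉ F M → ∀ x ∈ F M, x * a = a * x → x = 1) ∧
      (∀ g : G, g ∉ M → F M ⊓ (MulAut.conj g • F M) = ⊥) ∧
      (F M ≠ ⊥ ∨ IsMulCommutative M)

theorem exists_isMaxSolv {B : Subgroup G} (hB : Group.IsSolvable B) :
    ∃ M : Subgroup G, IsMaxSolv M ∧ B ≤ M := by
  haveI : Finite (Subgroup G) := Finite.of_injective _ SetLike.coe_injective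
  obtain ⟨M, hBM, hM⟩ := Finite.exists_le_maximal (p := fun X : Subgroup G => Group.IsSolvable X) hB
  exact ⟨M, ⟨hM.1, fun M' hlt hs => hlt.not_ge (hM.2 hs hlt.le)⟩, hBM⟩

theorem exists_abelian_le {N : Subgroup G} [N.Normal] (hN : Group.IsSolvable N) (h1 : N ≠ ⊥) :
    ∃ A : Subgroup G, A.Normal ∧ A ≠ ⊥ ∧ A ≤ N ∧ ∀ a ∈ A, ∀ b ∈ A, a * b = b * a := by
  classical
  have hex : ∃ k, derivedSeries N k = ⊥ := hN.solvable
  set k := Nat.find hex with hk_def
  have hk : derivedSeries N k = ⊥ := Nat.find_spec hex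
  obtain ⟨j, hj⟩ : ∃ j, k = j + 1 := by
    refine ⟨k - 1, (Nat.succ_pred_eq_of_ne_zero fun h0 => h1 ?_).symm⟩
    rw [h0, derivedSeries_zero] at hk
    rw [Subgroup.eq_bot_iff_forall]
    intro x hx
    have h' : (⟨x, hx⟩ : N) ∈ (⊥ : Subgroup N) := by rw [← hk]; exact Subgroup.mem_top _
    exact congrArg Subtype.val (Subgroup.mem_bot.1 h')
  have hne : derivedSeries N j ≠ ⊥ := Nat.find_min hex (by omega)
  haveI := derivedSeries_characteristic N j
  refine ⟨(derivedSeries N j).map N.subtype, inferInstance, fun h => hne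
    ((Subgroup.map_eq_bot_iff_of_injective _ N.subtype_injective).1 h), Subgroup.map_subtype_le _, ?_⟩
  rintro _ ⟨a, ha, rfl⟩ _ ⟨b, hb, rfl⟩
  rw [hj, derivedSeries_succ] at hk
  have hc := Subgroup.commutator_eq_bot_iff_le_centralizer.1 hk ha b hb
  exact congrArg Subtype.val hc.symm

variable {F : Subgroup G → Subgroup G} (hF : IsFrobSystem F) (hG : ¬ Group.IsSolvable G)
include hG

omit [Finite G] in
theorem ne_top_of_isSolvable {M : Subgroup G} (hM : Group.IsSolvable M) : M ≠ ⊤ := by
  rintro rfl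
  exact hG (Group.isSolvable_of_surjective (f := (⊤ : Subgroup G).subtype) fun g => ⟨⟨g, trivial⟩, rfl⟩)

/-- Not every solvable overgroup of a Sylow 2-subgroup can be abelian. -/
theorem false_of_abelian (S : Sylow 2 G)
    (h : ∀ B : Subgroup G, Group.IsSolvable B → (S : Subgroup G) ≤ B → ∀ a ∈ B, ∀ b ∈ B, a * b = b * a) :
    False := by
  haveI : Fact (Nat.Prime 2) := ⟨Nat.prime_two⟩
  have hS : Group.IsSolvable (S : Subgroup G) :=
    haveI := S.isPGroup'.isNilpotent; inferInstance
  have hNC : Subgroup.normalizer ((S : Subgroup G) : Set G) ≤ Subgroup.centralizer ((S : Subgroup G) : Set G) := by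
    intro g hg
    have hsol := Signalizer.isSolvable_sup hS
      (Group.isSolvable_of_comm fun a b : Subgroup.zpowers g => mul_comm' a b) (Subgroup.zpowers_le.2 hg)
    exact Subgroup.mem_centralizer_iff.2 fun x hx =>
      h _ hsol le_sup_left x (Subgroup.mem_sup_left hx) g (Subgroup.mem_sup_right (Subgroup.mem_zpowers g))
  set K := (MonoidHom.transferSylow S hNC).ker
  have hodd : Odd (Nat.card K) :=
    Nat.odd_iff.2 (Nat.two_dvd_ne_zero.1 (MonoidHom.not_dvd_card_ker_transferSylow S hNC))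
  haveI := OddOrderTheorem.solvable hodd
  haveI := hS
  exact hG (Group.isSolvable_of_ker_le_range K.subtype (MonoidHom.transferSylow S hNC)
    (by rw [Subgroup.range_subtype]))

include hF

theorem noSolvableNormal : NoSolvableNormal G := by
  intro N hN hNs
  by_contra hN1
  haveI := hN
  obtain ⟨A, hA, hA1, hAN, hAab⟩ := exists_abelian_le hNs hN1
  haveI := hA
  have hAs : Group.IsSolvable A := Group.isSolvable_of_comm fun a b => Subtype.ext (hAab a a.2 b b.2)
  haveI : Fact (Nat.Prime 2) := ⟨Nat.prime_two⟩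
  refine false_of_abelian hG default fun B hB hSB a ha b hb => ?_
  obtain ⟨M, hM, hBM⟩ := exists_isMaxSolv hB
  have hAM : A ≤ M := by
    by_contra hAM
    refine hM.2 (A ⊔ M) (lt_of_le_of_ne le_sup_right fun e => hAM (e ▸ le_sup_left)) ?_
    exact Signalizer.isSolvable_sup hAs hM.1 (by rw [Subgroup.normalizer_eq_top]; exact le_top)
  obtain ⟨hle, hnor, hfpf, hti, hne⟩ := hF M hM
  have hinf : ∀ x ∈ A, x ∈ F M → x = 1 := by
    intro x hxA hxF
    by_contra hx1
    have hAF : A ≤ F M := fun a ha => by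
      by_contra haF
      exact hx1 (hfpf a (hAM ha) haF x hxF (hAab x hxA a ha))
    refine ne_top_of_isSolvable hG hM.1 (eq_top_iff.2 fun g _ => ?_)
    by_contra hg
    refine hx1 (Subgroup.mem_bot.1 ((hti g hg).le ⟨hxF, ?_⟩))
    show x ∈ MulAut.conj g • F M
    rw [Subgroup.mem_pointwise_smul_iff_inv_smul_mem]
    refine hAF ?_
    simpa [MulAut.smul_def, MulAut.inv_def] using hA.conj_mem x hxA g⁻¹
  have hFbot : F M = ⊥ := by
    rw [Subgroup.eq_bot_iff_forall]
    intro x hx
    obtain ⟨a, haA, ha1⟩ := A.bot_or_exists_ne_one.resolve_left hA1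
    have haF : a ∉ F M := fun h => ha1 (hinf a haA h)
    have hcomm : x * a * x⁻¹ * a⁻¹ = 1 := by
      refine hinf _ (A.mul_mem (hA.conj_mem a haA x) (A.inv_mem haA)) ?_
      rw [show x * a * x⁻¹ * a⁻¹ = x * (a * x⁻¹ * a⁻¹) by group]
      exact (F M).mul_mem hx ((Subgroup.mem_normalizer_iff.1 (hnor (hAM haA)) _).1 ((F M).inv_mem hx))
    exact hfpf a (hAM haA) haF x hx (mul_inv_eq_iff_eq_mul.1 (mul_inv_eq_one.1 hcomm))
  haveI := hne.resolve_left (not_not.2 hFbot)
  exact congrArg Subtype.val (mul_comm' (⟨a, hBM ha⟩ : M) ⟨b, hBM hb⟩)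

theorem exists_tiHyp : ∃ M F' : Subgroup G, TIHyp M F' := by
  haveI : Fact (Nat.Prime 2) := ⟨Nat.prime_two⟩
  have hs := noSolvableNormal hF hG
  by_contra hno
  push Not at hno
  have S : Sylow 2 G := default
  refine false_of_abelian hG S fun B hB hSB a ha b hb => ?_
  obtain ⟨M, hM, hBM⟩ := exists_isMaxSolv hB
  obtain ⟨hle, hnor, hfpf, hti, hne⟩ := hF M hM
  have hodd : ∀ t ∈ F M, orderOf t ≠ 2 := fun t ht ht2 => hno M (F M)
    ⟨hle, fun m hm x hx => (Subgroup.mem_normalizer_iff.1 (hnor hm) x).1 hx, hfpf,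
      fun g hg x hx hgx => by
        have hg' : g⁻¹ ∉ M := fun hh => hg (by simpa using M.inv_mem hh)
        refine Subgroup.mem_bot.1 ((hti g⁻¹ hg').le ⟨hx, ?_⟩)
        show x ∈ MulAut.conj g⁻¹ • F M
        rw [Subgroup.mem_pointwise_smul_iff_inv_smul_mem]
        simpa [MulAut.smul_def] using hgx,
      ⟨t, ht, ht2⟩, ne_top_of_isSolvable hG hM.1⟩
  rcases hne with hne | hne
  · exfalso
    obtain ⟨x, hx, hx1⟩ := (F M).bot_or_exists_ne_one.resolve_left hne
    have hinv : ∀ t ∈ (S : Subgroup G), orderOf t = 2 → t * x * t⁻¹ = x⁻¹ := by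
      intro t ht ht2
      have htM : t ∈ M := hBM (hSB ht)
      have htF : t ∉ F M := fun h => hodd t h ht2
      let φ : F M →* F M :=
        { toFun := fun y => ⟨t * y * t⁻¹, (Subgroup.mem_normalizer_iff.1 (hnor htM) _).1 y.2⟩
          map_one' := Subtype.ext (by simp)
          map_mul' := fun u v => Subtype.ext (by simp only [Subgroup.coe_mul]; group) }
      have hfp : MonoidHom.FixedPointFree φ := fun y hy => Subtype.ext (hfpf t htM htF y y.2 (by
        have e : t * (y : G) * t⁻¹ = y := congrArg Subtype.val hy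
        exact (mul_inv_eq_iff_eq_mul.1 e).symm))
      have hi : Function.Involutive φ := fun y => Subtype.ext (by
        show t * (t * (y : G) * t⁻¹) * t⁻¹ = y
        rw [show t * (t * (y : G) * t⁻¹) * t⁻¹ = (t * t) * y * (t * t)⁻¹ by group,
          TIHyp.mul_self_of_two ht2]
        simp)
      exact congrArg Subtype.val (congrFun (hfp.coe_eq_inv_of_involutive hi) ⟨x, hx⟩)
    have huniq : ∀ t ∈ (S : Subgroup G), orderOf t = 2 → ∀ s ∈ (S : Subgroup G), orderOf s = 2 → t = s := by
      intro t ht ht2 s hs' hs2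
      by_contra hts
      have hF' : t * s ∈ F M := by
        by_contra hts'
        refine hx1 (hfpf _ (M.mul_mem (hBM (hSB ht)) (hBM (hSB hs'))) hts' x hx ?_)
        have e : t * s * x * (t * s)⁻¹ = x := by
          calc t * s * x * (t * s)⁻¹ = t * (s * x * s⁻¹) * t⁻¹ := by group
            _ = (t * x * t⁻¹)⁻¹ := by rw [hinv s hs' hs2]; group
            _ = x := by rw [hinv t ht ht2, inv_inv]
        exact (mul_inv_eq_iff_eq_mul.1 e).symm
      obtain ⟨k, hk⟩ := IsPGroup.iff_orderOf.1 S.isPGroup' ⟨t * s, (S : Subgroup G).mul_mem ht hs'⟩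
      rw [Subgroup.orderOf_mk] at hk
      rcases k with _ | k
      · rw [pow_zero, orderOf_eq_one_iff, mul_eq_one_iff_eq_inv, TIHyp.inv_of_two hs2] at hk
        exact hts hk
      · refine hodd _ ((F M).pow_mem hF' (2 ^ k)) ?_
        have hd := orderOf_pow_orderOf_div (x := t * s) (n := 2) (orderOf_pos _).ne'
          (by rw [hk, pow_succ]; exact dvd_mul_left 2 _)
        rwa [hk, pow_succ, Nat.mul_div_cancel _ two_pos] at hd
    have hS1 : Nontrivial (S : Subgroup G) := by
      by_contra hS1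
      rw [not_nontrivial_iff_subsingleton] at hS1
      exact false_of_abelian hG S fun B hB _ a ha b hb => by
        exfalso
        have h2 : ¬ 2 ∣ Nat.card G := fun hd => by
          have := S.ne_bot_of_dvd_card hd
          exact this (Subgroup.eq_bot_of_subsingleton _)
        exact hG (OddOrderTheorem.solvable (Nat.odd_iff.2 (Nat.two_dvd_ne_zero.1 h2)))
    haveI := hS1
    obtain ⟨k, hk0, hk⟩ := S.isPGroup'.nontrivial_iff_card.1 hS1
    obtain ⟨d, hd⟩ := exists_prime_orderOf_dvd_card' (G := (S : Subgroup G)) 2 (hk ▸ dvd_pow_self 2 (by omega))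
    have hd' : orderOf (d : G) = 2 := by rw [Subgroup.orderOf_coe, hd]
    exact false_of_unique_involution hs S hd' d.2 fun t ht ht2 => huniq t ht ht2 d d.2 hd'
  · haveI := hne
    exact congrArg Subtype.val (mul_comm' (⟨a, hBM ha⟩ : M) ⟨b, hBM hb⟩)

end Cfsg.Agent.FrobSystem
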