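import Cfsg.Agent.Lib.FrobSystem.Unique
import Cfsg.Agent.Lib.Frobenius.Basic
import Cfsg.Agent.EqLemmas

/-!
A self-normalising subgroup `M` with a normal TI subgroup `F` of even order on which `M ∖ F` acts
without fixed points: if the group has no nontrivial solvable normal subgroup, it is a Zassenhaus
group of odd degree on `G ⧸ M` with point kernel `F` (helper38).

* `TIHyp` : the hypothesis
* `TIHyp.zassenhaus`, `TIHyp.odd_card`, `TIHyp.card_omega`
-/

set_option autoImplicit false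

open MulAction

namespace Cfsg.Agent.FrobSystem

open InvertedOdd

universe u

variable {G : Type u} [Group G] [Finite G]

/-- The local hypothesis. -/
structure TIHyp (M F : Subgroup G) : Prop where
  le : F ≤ M
  normal : ∀ m ∈ M, ∀ x ∈ F, m * x * m⁻¹ ∈ F
  fpf : ∀ a ∈ M, a ∉ F → ∀ x ∈ F, x * a = a * x → x = 1
  ti : ∀ g, g ∉ M → ∀ x ∈ F, g * x * g⁻¹ ∈ F → x = 1
  invol : ∃ i ∈ F, orderOf i = 2
  ne_top : M ≠ ⊤

namespace TIHyp

variable {M F : Subgroup G}

/-- The involutions moving `p` to `q`. -/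
abbrev Swap (M : Subgroup G) (p q : G ⧸ M) : Type u := {t : G // orderOf t = 2 ∧ t • p = q}

/-- The two-point stabiliser. -/
abbrev Pair (M : Subgroup G) (p q : G ⧸ M) : Subgroup G := stabilizer G p ⊓ stabilizer G q

local notation "o" => ((1 : G) : G ⧸ M)

omit [Finite G] in
theorem smul_one_coset {g : G} : g • o = o ↔ g ∈ M := by
  rw [← mem_stabilizer_iff, stabilizer_quotient]

omit [Finite G] in
theorem conj_smul_eq {g x : G} {p : G ⧸ M} : (g⁻¹ * x * g) • (g⁻¹ • p) = g⁻¹ • p ↔ x • p = p := by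
  rw [mul_smul, mul_smul, smul_inv_smul, smul_left_cancel_iff]

omit [Finite G] in
theorem orderOf_conj_two {g t : G} (ht : orderOf t = 2) : orderOf (g⁻¹ * t * g) = 2 := by
  rw [← ht]
  have h := (MulAut.conj g⁻¹).orderOf_eq t
  simpa using h

omit [Finite G] in
theorem mul_self_of_two {t : G} (ht : orderOf t = 2) : t * t = 1 := by
  rw [← pow_two, ← ht, pow_orderOf_eq_one]

omit [Finite G] in
theorem inv_of_two {t : G} (ht : orderOf t = 2) : t⁻¹ = t :=
  inv_eq_of_mul_eq_one_right (mul_self_of_two ht)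

omit [Finite G] in
theorem smul_swap_back {t : G} (ht : orderOf t = 2) {p q : G ⧸ M} (h : t • p = q) : t • q = p := by
  rw [← h, ← mul_smul, mul_self_of_two ht, one_smul]

variable (h : TIHyp M F)
include h

theorem invol_mem {t : G} (ht : orderOf t = 2) (htM : t ∈ M) : t ∈ F := by
  by_contra htF
  obtain ⟨i, hi, hi2⟩ := h.invol
  let φ : F →* F :=
    { toFun := fun x => ⟨t * x * t⁻¹, h.normal t htM x x.2⟩
      map_one' := Subtype.ext (by simp)
      map_mul' := fun x y => Subtype.ext (by simp only [Subgroup.coe_mul]; group) }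
  have hfpf : MonoidHom.FixedPointFree φ := fun x hx => Subtype.ext (h.fpf t htM htF x x.2 (by
    have e : t * (x : G) * t⁻¹ = x := congrArg Subtype.val hx
    exact (mul_inv_eq_iff_eq_mul.1 e).symm))
  have hinv : Function.Involutive φ := fun x => Subtype.ext (by
    show t * (t * (x : G) * t⁻¹) * t⁻¹ = x
    rw [show t * (t * (x : G) * t⁻¹) * t⁻¹ = (t * t) * x * (t * t)⁻¹ by group, mul_self_of_two ht]
    simp)
  have e := congrArg Subtype.val (congrFun (hfpf.coe_eq_inv_of_involutive hinv) ⟨i, hi⟩)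
  have e' : t * i * t⁻¹ = i := e.trans (inv_of_two hi2)
  have := h.fpf t htM htF i hi (mul_inv_eq_iff_eq_mul.1 e').symm
  rw [this, orderOf_one] at hi2
  omega

theorem mem_of_conj_mem {x g : G} (hx : x ∈ F) (hx1 : x ≠ 1) (hg : g * x * g⁻¹ ∈ M) : g ∈ M := by
  by_contra hgM
  set r := (orderOf x).minFac with hr_def
  have hr : r.Prime := Nat.minFac_prime (by simp [hx1])
  haveI := Fact.mk hr
  set y := x ^ (orderOf x / r) with hy_def
  have hyo : orderOf y = r := orderOf_pow_orderOf_div (orderOf_pos x).ne' (Nat.minFac_dvd _)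
  have hy : y ∈ F := F.pow_mem hx _
  have hy1 : y ≠ 1 := fun e => by
    rw [e, orderOf_one] at hyo
    exact hr.ne_one hyo.symm
  set z := g * y * g⁻¹ with hz_def
  have hz : z ∈ M := by
    rw [hz_def, hy_def, ← conj_pow]
    exact M.pow_mem hg _
  have hzo : orderOf z = r := by
    rw [hz_def, ← hyo]
    have := (MulAut.conj g).orderOf_eq y
    simpa using this
  have hzF : z ∈ F := by
    by_contra hzF
    have hfp : Frobenius.FPF (Subgroup.zpowers z) F := by
      intro a ha ha1 k hk hak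
      refine h.fpf a (Subgroup.zpowers_le.2 hz ha) (fun haF => hzF ?_) k hk hak.symm
      have hle : Subgroup.zpowers z ≤ F := by
        have : Subgroup.zpowers a = Subgroup.zpowers z := by
          refine Subgroup.eq_of_le_of_card_ge (Subgroup.zpowers_le.2 ha) ?_
          rw [Nat.card_zpowers, Nat.card_zpowers, hzo]
          have hd : orderOf a ∣ r := hzo ▸ orderOf_dvd_of_mem_zpowers ha
          rcases hr.eq_one_or_self_of_dvd _ hd with e | e
          · exact absurd (orderOf_eq_one_iff.1 e) ha1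
          · rw [e]
        rw [← this]
        exact Subgroup.zpowers_le.2 haF
      exact hle (Subgroup.mem_zpowers z)
    have hA : Subgroup.zpowers z ≤ Subgroup.normalizer (F : Set G) := by
      refine Subgroup.zpowers_le.2 (Subgroup.mem_normalizer_iff.2 fun k => ⟨h.normal z hz k, fun hk => ?_⟩)
      have := h.normal z⁻¹ (M.inv_mem hz) _ hk
      rwa [show z⁻¹ * (z * k * z⁻¹) * z⁻¹⁻¹ = k by group] at this
    have h1 := hfp.card_modEq_one hA (p := r) (by rw [Nat.card_zpowers, hzo])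
    have h2 : r ∣ Nat.card F := by
      rw [← hyo]
      exact F.orderOf_dvd_natCard hy
    rw [Nat.ModEq, Nat.mod_eq_zero_of_dvd h2, Nat.mod_eq_of_lt hr.one_lt] at h1
    exact zero_ne_one h1
  exact hy1 (h.ti g hgM y hy hzF)

theorem fix_unique {x : G} (hx : x ∈ F) (hx1 : x ≠ 1) {p : G ⧸ M} (hp : x • p = p) : p = o := by
  obtain ⟨g, rfl⟩ := QuotientGroup.mk_surjective p
  have hg : g⁻¹ * x * g ∈ M := smul_one_coset.1 (by
    have e : (g : G ⧸ M) = g • o := by simp
    rw [mul_smul, mul_smul, ← e, hp, e, inv_smul_smul])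
  have := h.mem_of_conj_mem hx hx1 (g := g⁻¹) (by rwa [inv_inv])
  exact QuotientGroup.eq.2 (by simpa using M.inv_mem_iff.1 (by simpa using this))

theorem invol_fix_unique {t : G} (ht : orderOf t = 2) {p q : G ⧸ M} (hp : t • p = p) (hq : t • q = q) :
    p = q := by
  obtain ⟨g, rfl⟩ := exists_smul_eq G o p
  have ht' : g⁻¹ * t * g ∈ M := smul_one_coset.1 (by rw [mul_smul, mul_smul, hp, inv_smul_smul])
  have := h.fix_unique (h.invol_mem (orderOf_conj_two ht) ht')
    (fun e => by have := orderOf_conj_two (g := g) ht; rw [e, orderOf_one] at this; omega)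
    (conj_smul_eq.2 hq)
  rw [← this, smul_inv_smul]

omit h in
theorem isPGroup_two {t : G} (ht : orderOf t = 2) : IsPGroup 2 (Subgroup.zpowers t) :=
  IsPGroup.of_card (n := 1) (by rw [Nat.card_zpowers, ht, pow_one])

omit h in
theorem mem_fixedPoints_zpowers {t : G} {p : G ⧸ M} :
    p ∈ fixedPoints (Subgroup.zpowers t) (G ⧸ M) ↔ t • p = p := by
  refine ⟨fun hp => hp ⟨t, Subgroup.mem_zpowers t⟩, fun hp => ?_⟩
  rintro ⟨z, hz⟩
  exact mem_stabilizer_iff.1 ((Subgroup.zpowers_le (H := stabilizer G p)).2 (mem_stabilizer_iff.2 hp) hz)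

theorem odd_card : Odd (Nat.card (G ⧸ M)) := by
  obtain ⟨i, hi, hi2⟩ := h.invol
  haveI : Fact (Nat.Prime 2) := ⟨Nat.prime_two⟩
  have key := (isPGroup_two hi2).card_modEq_card_fixedPoints (G ⧸ M)
  have hi1 : i ≠ 1 := fun e => by rw [e, orderOf_one] at hi2; omega
  have hone : Nat.card (fixedPoints (Subgroup.zpowers i) (G ⧸ M)) = 1 := by
    rw [Nat.card_eq_one_iff_unique]
    refine ⟨⟨fun a b => Subtype.ext ?_⟩,
      ⟨⟨o, mem_fixedPoints_zpowers.2 (smul_one_coset.2 (h.le hi))⟩⟩⟩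
    exact (h.fix_unique hi hi1 (mem_fixedPoints_zpowers.1 a.2)).trans
      (h.fix_unique hi hi1 (mem_fixedPoints_zpowers.1 b.2)).symm
  rw [hone] at key
  exact Nat.odd_iff.2 key

theorem exists_fix {t : G} (ht : orderOf t = 2) : ∃ p : G ⧸ M, t • p = p := by
  haveI : Fact (Nat.Prime 2) := ⟨Nat.prime_two⟩
  have key := (isPGroup_two ht).card_modEq_card_fixedPoints (G ⧸ M)
  by_contra hno
  push Not at hno
  haveI : IsEmpty (fixedPoints (Subgroup.zpowers t) (G ⧸ M)) :=
    ⟨fun p => hno p (mem_fixedPoints_zpowers.1 p.2)⟩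
  rw [Nat.card_of_isEmpty (α := fixedPoints (Subgroup.zpowers t) (G ⧸ M)), Nat.ModEq, Nat.odd_iff.1 h.odd_card] at key
  omega

/-- An element fixing a point moved by a commuting involution is trivial. -/
theorem eq_one_of_commute {x t : G} (ht : orderOf t = 2) (hxt : Commute x t) {q : G ⧸ M}
    (hx : x • q = q) (htq : t • q ≠ q) : x = 1 := by
  obtain ⟨c, hc⟩ := h.exists_fix ht
  have hxc : x • c = c := h.invol_fix_unique ht
    (show t • (x • c) = x • c by rw [← mul_smul, ← hxt.eq, mul_smul, hc]) hc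
  obtain ⟨g, rfl⟩ := exists_smul_eq G o c
  have htM : g⁻¹ * t * g ∈ M := smul_one_coset.1 (by rw [mul_smul, mul_smul, hc, inv_smul_smul])
  have hxM : g⁻¹ * x * g ∈ M := smul_one_coset.1 (by rw [mul_smul, mul_smul, hxc, inv_smul_smul])
  have htF := h.invol_mem (orderOf_conj_two ht) htM
  have hxF : g⁻¹ * x * g ∈ F := by
    by_contra hxF
    have := h.fpf _ hxM hxF _ htF (by
      calc g⁻¹ * t * g * (g⁻¹ * x * g) = g⁻¹ * (t * x) * g := by group
        _ = g⁻¹ * (x * t) * g := by rw [hxt.eq]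
        _ = g⁻¹ * x * g * (g⁻¹ * t * g) := by group)
    have h2 := orderOf_conj_two (g := g) ht
    rw [this, orderOf_one] at h2
    omega
  by_contra hx1
  have hne : g⁻¹ * x * g ≠ 1 := fun e => hx1 (by
    calc x = g * (g⁻¹ * x * g) * g⁻¹ := by group
      _ = 1 := by rw [e]; group)
  have hq := h.fix_unique hxF hne (conj_smul_eq.2 hx)
  exact htq (by rw [show q = g • o by rw [← hq, smul_inv_smul]]; exact hc)

/-- A swapper inverts the two-point stabiliser. -/
theorem inverts {t x : G} (ht : orderOf t = 2) {p q : G ⧸ M} (hpq : p ≠ q) (htp : t • p = q)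
    (hxp : x • p = p) (hxq : x • q = q) : t * x * t⁻¹ = x⁻¹ := by
  have htq := smul_swap_back ht htp
  let φ : Pair M p q →* Pair M p q :=
    { toFun := fun y => ⟨t * y * t⁻¹, by
        have h1 : (y : G) • p = p := y.2.1
        have h2 : (y : G) • q = q := y.2.2
        constructor
        · show (t * (y : G) * t⁻¹) • p = p
          rw [inv_of_two ht, mul_smul, mul_smul, htp, h2, htq]
        · show (t * (y : G) * t⁻¹) • q = q
          rw [inv_of_two ht, mul_smul, mul_smul, htq, h1, htp]⟩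
      map_one' := Subtype.ext (by simp)
      map_mul' := fun a b => Subtype.ext (by simp only [Subgroup.coe_mul]; group) }
  have hfpf : MonoidHom.FixedPointFree φ := fun y hy => Subtype.ext (h.eq_one_of_commute ht
    (by
      have e : t * (y : G) * t⁻¹ = y := congrArg Subtype.val hy
      exact (mul_inv_eq_iff_eq_mul.1 e).symm) y.2.1 (by rw [htp]; exact hpq.symm))
  have hinv : Function.Involutive φ := fun y => Subtype.ext (by
    show t * (t * (y : G) * t⁻¹) * t⁻¹ = y
    rw [show t * (t * (y : G) * t⁻¹) * t⁻¹ = (t * t) * y * (t * t)⁻¹ by group, mul_self_of_two ht]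
    simp)
  exact congrArg Subtype.val (congrFun (hfpf.coe_eq_inv_of_involutive hinv) ⟨x, hxp, hxq⟩)

theorem card_swap_le_pair {p q : G ⧸ M} : Nat.card (Swap M p q) ≤ Nat.card (Pair M p q) := by
  rcases isEmpty_or_nonempty (Swap M p q) with he | ⟨⟨t₀, ht₀, ht₀p⟩⟩
  · simp
  refine Nat.card_le_card_of_injective (fun t => (⟨t₀ * t.1, ?_, ?_⟩ : Pair M p q)) fun a b e =>
    Subtype.ext (mul_left_cancel (congrArg Subtype.val e))
  · show (t₀ * t.1) • p = p
    rw [mul_smul, t.2.2, smul_swap_back ht₀ ht₀p]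
  · show (t₀ * t.1) • q = q
    rw [mul_smul, smul_swap_back t.2.1 t.2.2, ht₀p]

omit h in
theorem card_swap_self (g : G) (p : G ⧸ M) :
    Nat.card (Swap M p p) = Nat.card (Swap M (g • p) (g • p)) := by
  refine Nat.card_congr ((MulAut.conj g).toEquiv.subtypeEquiv fun t => ?_)
  show _ ↔ orderOf ((MulAut.conj g) t) = 2 ∧ ((MulAut.conj g) t) • g • p = g • p
  rw [(MulAut.conj g).orderOf_eq t, MulAut.conj_apply]
  simp [mul_smul]

omit h in
theorem card_swap_point (p : G ⧸ M) : Nat.card (Swap M p p) = Nat.card (Swap M o o) := by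
  obtain ⟨g, rfl⟩ := exists_smul_eq G o p
  exact (card_swap_self g o).symm

theorem card_pair_le {p q : G ⧸ M} (hpq : p ≠ q) : Nat.card (Pair M p q) ≤ Nat.card (Swap M o o) := by
  obtain ⟨i, hi, hi2⟩ := h.invol
  obtain ⟨g, hg⟩ := exists_smul_eq G o p
  have hti : orderOf (g * i * g⁻¹) = 2 := by simpa using orderOf_conj_two (g := g⁻¹) hi2
  have htp : (g * i * g⁻¹) • p = p := by
    rw [← hg, mul_smul, mul_smul, inv_smul_smul, smul_one_coset.2 (h.le hi)]
  rw [← card_swap_point p]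
  refine Nat.card_le_card_of_injective (fun d => (⟨(d : G) * (g * i * g⁻¹) * (d : G)⁻¹, ?_, ?_⟩ : Swap M p p))
    fun a b e => ?_
  · have := (MulAut.conj (d : G)).orderOf_eq (g * i * g⁻¹)
    rw [hti] at this
    simpa using this
  · have h1 : (d : G) • p = p := d.2.1
    have h2 : (d : G)⁻¹ • p = p := by rw [inv_smul_eq_iff, h1]
    rw [mul_smul, mul_smul, h2, htp, h1]
  · have e' : (a : G) * (g * i * g⁻¹) * (a : G)⁻¹ = (b : G) * (g * i * g⁻¹) * (b : G)⁻¹ :=
      congrArg Subtype.val e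
    refine Subtype.ext (inv_mul_eq_one.1 (h.eq_one_of_commute hti (x := (a : G)⁻¹ * b) ?_
      (show ((a : G)⁻¹ * b) • q = q from ((a⁻¹ * b : Pair M p q)).2.2)
      fun e2 => hpq (h.invol_fix_unique hti htp e2)))
    show (a : G)⁻¹ * b * (g * i * g⁻¹) = g * i * g⁻¹ * ((a : G)⁻¹ * b)
    calc (a : G)⁻¹ * b * (g * i * g⁻¹) = (a : G)⁻¹ * ((b : G) * (g * i * g⁻¹) * (b : G)⁻¹) * b := by group
      _ = (a : G)⁻¹ * ((a : G) * (g * i * g⁻¹) * (a : G)⁻¹) * b := by rw [e']
      _ = g * i * g⁻¹ * ((a : G)⁻¹ * b) := by group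

theorem card_swap_eq {q : G ⧸ M} (hq : q ≠ o) : Nat.card (Swap M o q) = Nat.card (Swap M o o) := by
  classical
  haveI := Fintype.ofFinite (G ⧸ M)
  set m := Nat.card (Swap M o o) with hm
  have hle : ∀ p ∈ (Finset.univ : Finset (G ⧸ M)), Nat.card (Swap M o p) ≤ m := fun p _ => by
    rcases eq_or_ne p o with rfl | hp
    · exact le_rfl
    · exact (h.card_swap_le_pair).trans (h.card_pair_le hp.symm)
  let I := {t : G // orderOf t = 2}
  have h1 : Nat.card I = ∑ p : G ⧸ M, Nat.card (Swap M o p) := by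
    rw [← Nat.card_sigma]
    exact Nat.card_congr
      { toFun := fun t => ⟨t.1 • o, t.1, t.2, rfl⟩
        invFun := fun t => ⟨t.2.1, t.2.2.1⟩
        left_inv := fun t => rfl
        right_inv := fun ⟨p, t, ht, hp⟩ => by subst hp; rfl }
  have h2 : Nat.card I = ∑ p : G ⧸ M, Nat.card (Swap M p p) := by
    rw [← Nat.card_sigma]
    exact Nat.card_congr (Equiv.ofBijective
      (fun t : (Σ p : G ⧸ M, Swap M p p) => (⟨t.2.1, t.2.2.1⟩ : I))
      ⟨fun a b e => by
        obtain ⟨p, t, ht, hp⟩ := a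
        obtain ⟨p', t', ht', hp'⟩ := b
        have e' : t = t' := congrArg Subtype.val e
        subst e'
        obtain rfl := h.invol_fix_unique ht hp hp'
        rfl,
      fun t => by
        obtain ⟨p, hp⟩ := h.exists_fix t.2
        exact ⟨⟨p, t.1, t.2, hp⟩, rfl⟩⟩).symm
  have h3 : ∑ p : G ⧸ M, Nat.card (Swap M p p) = ∑ _p : G ⧸ M, m :=
    Finset.sum_congr rfl fun p _ => card_swap_point p
  exact (Finset.sum_eq_sum_iff_of_le hle).1 (h1.symm.trans (h2.trans h3)) q (Finset.mem_univ q)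

theorem card_pair_eq {q : G ⧸ M} (hq : q ≠ o) : Nat.card (Pair M o q) = Nat.card (Swap M o o) :=
  le_antisymm (h.card_pair_le hq.symm) ((h.card_swap_eq hq).symm.le.trans h.card_swap_le_pair)

theorem exists_swap {p q : G ⧸ M} (hpq : p ≠ q) : ∃ t : G, orderOf t = 2 ∧ t • p = q := by
  obtain ⟨g, hg⟩ := exists_smul_eq G o p
  have hne : g⁻¹ • q ≠ o := fun e => hpq (by rw [← hg, ← e, smul_inv_smul])
  obtain ⟨i, hi, hi2⟩ := h.invol
  haveI : Nonempty (Swap M o o) := ⟨⟨i, hi2, smul_one_coset.2 (h.le hi)⟩⟩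
  have hpos : 0 < Nat.card (Swap M o (g⁻¹ • q)) := by
    rw [h.card_swap_eq hne]
    exact Nat.card_pos
  obtain ⟨⟨t, ht, htq⟩⟩ := (Nat.card_pos_iff.1 hpos).1
  refine ⟨g * t * g⁻¹, by simpa using orderOf_conj_two (g := g⁻¹) ht, ?_⟩
  rw [← hg, mul_smul, mul_smul, inv_smul_smul, htq, smul_inv_smul]

theorem two_le (hs : NoSolvableNormal G) : 2 ≤ Nat.card (Swap M o o) := by
  obtain ⟨i, hi, hi2⟩ := h.invol
  have hio : i • o = o := smul_one_coset.2 (h.le hi)
  obtain ⟨s, hs2, hne, hcomm⟩ := exists_commuting_involution hs hi2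
  have hso : s • o = o := h.invol_fix_unique hi2
    (show i • (s • o) = s • o by rw [← mul_smul, ← hcomm.eq, mul_smul, hio]) hio
  haveI : Nontrivial (Swap M o o) := ⟨⟨⟨s, hs2, hso⟩, ⟨i, hi2, hio⟩, fun e => hne (congrArg Subtype.val e)⟩⟩
  exact Finite.one_lt_card

theorem card_le_mul : Nat.card M ≤ Nat.card F * Nat.card (Swap M o o) := by
  classical
  haveI := Fintype.ofFinite M
  haveI := Fintype.ofFinite F
  haveI := Fintype.ofFinite (Swap M o o)
  obtain ⟨i, hi, hi2⟩ := h.invol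
  let f : M → Swap M o o := fun a => ⟨(a : G) * i * (a : G)⁻¹,
    by simpa using orderOf_conj_two (g := (a : G)⁻¹) hi2,
    smul_one_coset.2 (M.mul_mem (M.mul_mem a.2 (h.le hi)) (M.inv_mem a.2))⟩
  rw [Nat.card_eq_fintype_card, Nat.card_eq_fintype_card, Nat.card_eq_fintype_card, ← Finset.card_univ]
  refine (Finset.card_le_mul_card_image (f := f) Finset.univ (Fintype.card F) fun b hb => ?_).trans
    (Nat.mul_le_mul le_rfl (Finset.card_le_univ _))
  obtain ⟨a₀, -, rfl⟩ := Finset.mem_image.1 hb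
  rw [← Fintype.card_coe]
  refine Fintype.card_le_of_injective (fun a => (⟨(a₀ : G)⁻¹ * (a.1 : G), ?_⟩ : F)) fun a b e =>
    Subtype.ext (Subtype.ext (mul_left_cancel (congrArg Subtype.val e)))
  have e : (a.1 : G) * i * (a.1 : G)⁻¹ = (a₀ : G) * i * (a₀ : G)⁻¹ :=
    congrArg Subtype.val (Finset.mem_filter.1 a.2).2
  by_contra hF
  have := h.fpf _ (M.mul_mem (M.inv_mem a₀.2) a.1.2) hF i hi (by
    calc i * ((a₀ : G)⁻¹ * a.1) = (a₀ : G)⁻¹ * ((a₀ : G) * i * (a₀ : G)⁻¹) * a.1 := by group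
      _ = (a₀ : G)⁻¹ * ((a.1 : G) * i * (a.1 : G)⁻¹) * a.1 := by rw [e]
      _ = (a₀ : G)⁻¹ * a.1 * i := by group)
  rw [this, orderOf_one] at hi2
  omega

theorem pair_inf {q : G ⧸ M} (hq : q ≠ o) {x : G} (hxq : x • q = q) (hxF : x ∈ F) : x = 1 := by
  by_contra hx1
  exact hq (h.fix_unique hxF hx1 hxq)

theorem exists_mul {q : G ⧸ M} (hq : q ≠ o) {a : G} (ha : a ∈ M) :
    ∃ f ∈ F, ∃ d ∈ Pair M o q, f * d = a := by
  let φ : F × Pair M o q → M := fun p => ⟨(p.1 : G) * p.2, M.mul_mem (h.le p.1.2) (smul_one_coset.1 p.2.2.1)⟩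
  have hinj : Function.Injective φ := by
    rintro ⟨f, d⟩ ⟨f', d'⟩ e
    have e' : (f : G) * d = (f' : G) * d' := congrArg Subtype.val e
    have h1 : (f' : G)⁻¹ * f = (d' : G) * (d : G)⁻¹ := by
      rw [eq_mul_inv_iff_mul_eq, mul_assoc, e', inv_mul_cancel_left]
    have h2 : (f' : G)⁻¹ * f = 1 := h.pair_inf hq
      (show ((f' : G)⁻¹ * f) • q = q by rw [h1]; exact ((d' * d⁻¹ : Pair M o q)).2.2)
      (F.mul_mem (F.inv_mem f'.2) f.2)
    have hf : f' = f := Subtype.ext (inv_mul_eq_one.1 h2)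
    subst hf
    exact Prod.ext rfl (Subtype.ext (mul_left_cancel e'))
  have hbij : Function.Bijective φ := hinj.bijective_of_nat_card_le (by
    rw [Nat.card_prod, h.card_pair_eq hq]
    exact h.card_le_mul)
  obtain ⟨⟨f, d⟩, e⟩ := hbij.2 ⟨a, ha⟩
  exact ⟨f, f.2, d, d.2, congrArg Subtype.val e⟩

theorem pair_commute {p q : G ⧸ M} (hpq : p ≠ q) {x y : G} (hx : x ∈ Pair M p q) (hy : y ∈ Pair M p q) :
    x * y = y * x := by
  obtain ⟨t, ht, htp⟩ := h.exists_swap hpq
  have hxy : x * y ∈ Pair M p q := mul_mem hx hy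
  have e1 := h.inverts ht hpq htp hxy.1 hxy.2
  have e2 : t * (x * y) * t⁻¹ = (t * x * t⁻¹) * (t * y * t⁻¹) := by group
  rw [e2, h.inverts ht hpq htp hx.1 hx.2, h.inverts ht hpq htp hy.1 hy.2, mul_inv_rev] at e1
  calc x * y = (y⁻¹ * x⁻¹)⁻¹ := by group
    _ = (x⁻¹ * y⁻¹)⁻¹ := by rw [← e1]
    _ = y * x := by group

theorem inverted_eq_one {a x : G} (ha : a ∈ M) {q : G ⧸ M} (hq : q ≠ o) (hxo : x • o = o)
    (hxq : x • q = q) (hax : a * x * a⁻¹ = x⁻¹) : x = 1 := by
  obtain ⟨f, hf, d, hd, rfl⟩ := h.exists_mul hq ha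
  have hxP : x ∈ Pair M o q := ⟨hxo, hxq⟩
  have hdx : d * x * d⁻¹ = x := by rw [h.pair_commute hq.symm hd hxP, mul_inv_cancel_right]
  have hfx : f * x * f⁻¹ = x⁻¹ := by
    calc f * x * f⁻¹ = f * (d * x * d⁻¹) * f⁻¹ := by rw [hdx]
      _ = f * d * x * (f * d)⁻¹ := by group
      _ = _ := hax
  have hxx : x⁻¹ * x⁻¹ = f * (x * f⁻¹ * x⁻¹) := by
    rw [show f * (x * f⁻¹ * x⁻¹) = f * x * f⁻¹ * x⁻¹ by group, hfx]
  have hxxF : x⁻¹ * x⁻¹ ∈ F := by
    rw [hxx]
    exact F.mul_mem hf (h.normal x (smul_one_coset.1 hxo) _ (F.inv_mem hf))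
  have h1 : x⁻¹ * x⁻¹ = 1 :=
    h.pair_inf hq (show (x⁻¹ * x⁻¹) • q = q from (mul_mem (inv_mem hxP) (inv_mem hxP) :
      x⁻¹ * x⁻¹ ∈ Pair M o q).2) hxxF
  by_contra hx1
  have hx2 : orderOf x = 2 := by
    refine orderOf_eq_prime ?_ hx1
    rw [pow_two, ← inv_inv (x * x), mul_inv_rev, h1, inv_one]
  exact hx1 (h.pair_inf hq hxq (h.invol_mem hx2 (smul_one_coset.1 hxo)))

theorem eq_one_of_fix_three {x : G} {p q r : G ⧸ M} (hpq : p ≠ q) (hqr : q ≠ r) (hpr : p ≠ r)
    (hp : x • p = p) (hq : x • q = q) (hr : x • r = r) : x = 1 := by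
  obtain ⟨u, hu, hup⟩ := h.exists_swap hpq
  obtain ⟨w, hw, hwp⟩ := h.exists_swap hpr
  obtain ⟨v, hv, hvq⟩ := h.exists_swap hqr
  have hxu := h.inverts hu hpq hup hp hq
  have hxw := h.inverts hw hpr hwp hp hr
  have hxv := h.inverts hv hqr hvq hq hr
  set e := v * (u * w) with he
  have her : e • r = r := by rw [he, mul_smul, mul_smul, smul_swap_back hw hwp, hup, hvq]
  have hex : e * x * e⁻¹ = x⁻¹ := by
    calc e * x * e⁻¹ = v * (u * (w * x * w⁻¹) * u⁻¹) * v⁻¹ := by rw [he]; group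
      _ = v * (u * x * u⁻¹)⁻¹ * v⁻¹ := by rw [hxw]; group
      _ = v * x * v⁻¹ := by rw [hxu, inv_inv]
      _ = x⁻¹ := hxv
  obtain ⟨g, rfl⟩ := exists_smul_eq G o r
  have heM : g⁻¹ * e * g ∈ M := smul_one_coset.1 (by rw [mul_smul, mul_smul, her, inv_smul_smul])
  have h1 := h.inverted_eq_one heM (q := g⁻¹ • q) (x := g⁻¹ * x * g)
    (fun e' => hqr (by rw [← smul_inv_smul g q, e']))
    (by rw [mul_smul, mul_smul, hr, inv_smul_smul]) (conj_smul_eq.2 hq)
    (by
      calc g⁻¹ * e * g * (g⁻¹ * x * g) * (g⁻¹ * e * g)⁻¹ = g⁻¹ * (e * x * e⁻¹) * g := by group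
        _ = g⁻¹ * x⁻¹ * g := by rw [hex]
        _ = _ := by group)
  calc x = g * (g⁻¹ * x * g) * g⁻¹ := by group
    _ = 1 := by rw [h1]; group

theorem card_sub_one_le (hs : NoSolvableNormal G) : Nat.card (G ⧸ M) - 1 ≤ Nat.card F := by
  classical
  haveI := Fintype.ofFinite (G ⧸ M)
  set m := Nat.card (Swap M o o) with hm
  have h2 : 2 ≤ m := h.two_le hs
  have hinj : Function.Injective (fun t : (Σ q : {q : G ⧸ M // q ≠ o}, {x : Pair M o q.1 // x ≠ 1}) =>
      (⟨⟨(t.2.1 : G), smul_one_coset.1 t.2.1.2.1⟩, fun hF => t.2.2 (Subtype.ext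
        (h.pair_inf t.1.2 t.2.1.2.2 hF))⟩ : {a : M // (a : G) ∉ F})) := by
    rintro ⟨⟨q, hq⟩, ⟨x, hx⟩, hx1⟩ ⟨⟨q', hq'⟩, ⟨x', hx'⟩, hx1'⟩ e
    have e' : x = x' := congrArg (fun a : {a : M // (a : G) ∉ F} => ((a : M) : G)) e
    subst e'
    have : q = q' := by
      by_contra hne
      exact hx1 (Subtype.ext (h.eq_one_of_fix_three (Ne.symm hq) hne (Ne.symm hq') hx.1 hx.2 hx'.2))
    subst this
    rfl
  have hle := Nat.card_le_card_of_injective _ hinj
  have hfib : ∀ q : {q : G ⧸ M // q ≠ o}, Nat.card {x : Pair M o q.1 // x ≠ 1} = m - 1 := fun q => by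
    haveI := Fintype.ofFinite (Pair M o q.1)
    rw [Nat.card_eq_fintype_card, Fintype.card_subtype_compl, Fintype.card_subtype_eq,
      ← Nat.card_eq_fintype_card, h.card_pair_eq q.2]
  rw [Nat.card_sigma, Finset.sum_congr rfl fun q _ => hfib q, Finset.sum_const, smul_eq_mul,
    Finset.card_univ, Fintype.card_subtype_compl, Fintype.card_subtype_eq, ← Nat.card_eq_fintype_card]
    at hle
  have hM : Nat.card {a : M // (a : G) ∉ F} = Nat.card M - Nat.card F := by
    haveI := Fintype.ofFinite M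
    rw [Nat.card_eq_fintype_card, Fintype.card_subtype_compl, ← Nat.card_eq_fintype_card,
      ← Nat.card_eq_fintype_card]
    congr 1
    exact Nat.card_congr (Subgroup.subgroupOfEquivOfLe h.le).toEquiv
  rw [hM] at hle
  have h3 := h.card_le_mul
  rw [← hm] at h3
  by_contra hlt
  push Not at hlt
  obtain ⟨k, hk⟩ : ∃ k, m = k + 1 := ⟨m - 1, by omega⟩
  rw [hk, Nat.mul_succ] at h3
  rw [hk, Nat.add_sub_cancel] at hle
  have h4 : (Nat.card F + 1) * k ≤ (Nat.card (G ⧸ M) - 1) * k := Nat.mul_le_mul hlt le_rfl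
  rw [Nat.succ_mul] at h4
  omega

theorem exists_ne_one_coset : ∃ q : G ⧸ M, q ≠ o := by
  by_contra hno
  push Not at hno
  refine h.ne_top (eq_top_iff.2 fun g _ => ?_)
  have := hno (g : G ⧸ M)
  simpa using QuotientGroup.eq.1 this

theorem exists_regular (hs : NoSolvableNormal G) {p q : G ⧸ M} (hp : p ≠ o) (hq : q ≠ o) :
    ∃ f ∈ F, f • p = q := by
  classical
  haveI := Fintype.ofFinite (G ⧸ M)
  let φ : F → {q : G ⧸ M // q ≠ o} := fun f => ⟨(f : G) • p, fun e => hp (by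
    rw [← inv_smul_smul (f : G) p, e]
    exact smul_one_coset.2 (M.inv_mem (h.le f.2)))⟩
  have hinj : Function.Injective φ := fun a b e => by
    have e' : (a : G) • p = (b : G) • p := congrArg Subtype.val e
    refine Subtype.ext (inv_mul_eq_one.1 (h.pair_inf hp ?_ (F.mul_mem (F.inv_mem b.2) a.2))).symm
    rw [mul_smul, e', inv_smul_smul]
  obtain ⟨f, hf⟩ := (hinj.bijective_of_nat_card_le (by
    rw [Nat.card_eq_fintype_card (α := {q : G ⧸ M // q ≠ o}), Fintype.card_subtype_compl,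
      Fintype.card_subtype_eq, ← Nat.card_eq_fintype_card]
    exact h.card_sub_one_le hs)).2 ⟨q, hq⟩
  exact ⟨f, f.2, congrArg Subtype.val hf⟩

theorem card_omega (hs : NoSolvableNormal G) : Nat.card F + 1 = Nat.card (G ⧸ M) := by
  classical
  haveI := Fintype.ofFinite (G ⧸ M)
  obtain ⟨p, hp⟩ := h.exists_ne_one_coset
  have hle : Nat.card F ≤ Nat.card {q : G ⧸ M // q ≠ o} := by
    refine Nat.card_le_card_of_injective (fun f => (⟨(f : G) • p, fun e => hp (by
      rw [← inv_smul_smul (f : G) p, e]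
      exact smul_one_coset.2 (M.inv_mem (h.le f.2)))⟩ : {q : G ⧸ M // q ≠ o})) fun a b e => ?_
    have e' : (a : G) • p = (b : G) • p := congrArg Subtype.val e
    refine Subtype.ext (inv_mul_eq_one.1 (h.pair_inf hp ?_ (F.mul_mem (F.inv_mem b.2) a.2))).symm
    rw [mul_smul, e', inv_smul_smul]
  rw [Nat.card_eq_fintype_card (α := {q : G ⧸ M // q ≠ o}), Fintype.card_subtype_compl,
    Fintype.card_subtype_eq, ← Nat.card_eq_fintype_card] at hle
  have h1 : 0 < Nat.card (G ⧸ M) := Nat.card_pos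
  have h2 := h.card_sub_one_le hs
  omega

theorem zassenhaus (hs : NoSolvableNormal G) : Cfsg.IsZassenhausGroup G (G ⧸ M) := by
  obtain ⟨b, hb⟩ := h.exists_ne_one_coset
  obtain ⟨i, hi, hi2⟩ := h.invol
  have hmove : i • b ≠ b := fun e => hb (h.fix_unique hi (fun e' => by
    rw [e', orderOf_one] at hi2; omega) e)
  have hib : i • b ≠ o := fun e => hb (by
    rw [← inv_smul_smul i b, e]
    exact smul_one_coset.2 (M.inv_mem (h.le hi)))
  refine ⟨⟨fun {g g'} hgg => ?_⟩, ?_, fun g a b c hab hbc hac ha hb hc =>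
    h.eq_one_of_fix_three hab hbc hac ha hb hc, ?_, ?_⟩
  · have : g'⁻¹ * g = 1 := h.eq_one_of_fix_three hb.symm (Ne.symm hmove) (Ne.symm hib)
      (by rw [mul_smul, hgg, inv_smul_smul]) (by rw [mul_smul, hgg, inv_smul_smul])
      (by rw [mul_smul, hgg, inv_smul_smul])
    exact (inv_mul_eq_one.1 this).symm
  · rw [is_two_pretransitive_iff]
    intro p q r s hpq hrs
    obtain ⟨g, hg⟩ := exists_smul_eq G o p
    obtain ⟨g', hg'⟩ := exists_smul_eq G o r
    have h1 : g⁻¹ • q ≠ o := fun e => hpq (by rw [← hg, ← e, smul_inv_smul])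
    have h2 : g'⁻¹ • s ≠ o := fun e => hrs (by rw [← hg', ← e, smul_inv_smul])
    obtain ⟨f, hf, hfq⟩ := h.exists_regular hs h1 h2
    refine ⟨g' * f * g⁻¹, ?_, ?_⟩
    · rw [mul_smul, mul_smul, ← hg, inv_smul_smul, smul_one_coset.2 (h.le hf), hg']
    · rw [mul_smul, mul_smul, hfq, smul_inv_smul]
  · obtain ⟨x, hx⟩ : ∃ x : Pair M o b, x ≠ 1 := by
      haveI : Nontrivial (Pair M o b) := Finite.one_lt_card_iff_nontrivial.1 (by
        rw [h.card_pair_eq hb]; exact h.two_le hs)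
      exact exists_ne 1
    exact ⟨x, fun e => hx (Subtype.ext e), o, b, hb.symm, x.2.1, x.2.2⟩
  · intro N hN htr
    by_contra hno
    push Not at hno
    haveI : MulAction.IsPretransitive N (G ⧸ M) := htr
    have hbij : Function.Bijective fun n : N => n • o := by
      refine ⟨fun a c e => ?_, fun p => exists_smul_eq N o p⟩
      have : c⁻¹ * a ∈ stabilizer N o := by
        rw [mem_stabilizer_iff, mul_smul]
        exact inv_smul_eq_iff.2 e
      have hb' : stabilizer N o = ⊥ := hno o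
      rw [hb', Subgroup.mem_bot, inv_mul_eq_one] at this
      exact this.symm
    have hN1 := eq_bot_of_odd_normal hs hN (by rw [Nat.card_eq_of_bijective _ hbij]; exact h.odd_card)
    obtain ⟨n, hn⟩ := exists_smul_eq N o b
    apply hb
    rw [← hn, show n = 1 from Subtype.ext (Subgroup.mem_bot.1 (hN1 ▸ n.2)), one_smul]

end TIHyp

end Cfsg.Agent.FrobSystem
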