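import Cfsg.Agent.Lib.ZStar.Unique
import Cfsg.Agent.Lib.OddOrderTheorem.Basic
import Cfsg.Agent.Lib.InvertedOdd.Semisimple
import Cfsg.Agent.EqLemmas

/-!
A group without solvable normal subgroups has no Sylow 2-subgroup with a single involution.
-/

set_option autoImplicit false

namespace Cfsg.Agent.FrobSystem

open InvertedOdd

universe u

variable {G : Type u} [Group G] [Finite G]

theorem eq_bot_of_odd_normal (hs : NoSolvableNormal G) {N : Subgroup G} (hN : N.Normal)
    (hodd : Odd (Nat.card N)) : N = ⊥ :=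
  hs N hN (OddOrderTheorem.solvable hodd)

theorem false_of_unique_involution (hs : NoSolvableNormal G) (T : Sylow 2 G) {d : G}
    (hd : orderOf d = 2) (hdT : d ∈ T) (h : ∀ t ∈ T, orderOf t = 2 → t = d) : False := by
  obtain ⟨N, hN, hNodd, hcomm⟩ := ZStar.uniqueInvolution G d T hd hdT h
  have hN1 := eq_bot_of_odd_normal hs hN hNodd
  have hc : d ∈ Subgroup.center G := Subgroup.mem_center_iff.2 fun g => by
    have h1 := hcomm g
    rw [hN1, Subgroup.mem_bot, mul_inv_eq_one, mul_inv_eq_iff_eq_mul] at h1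
    exact h1.symm
  rw [center_eq_bot hs, Subgroup.mem_bot] at hc
  rw [hc, orderOf_one] at hd
  omega

/-- An involution in some Sylow 2-subgroup has a commuting partner. -/
theorem exists_commuting_involution (hs : NoSolvableNormal G) {d : G} (hd : orderOf d = 2) :
    ∃ s : G, orderOf s = 2 ∧ s ≠ d ∧ Commute s d := by
  classical
  haveI : Fact (Nat.Prime 2) := ⟨Nat.prime_two⟩
  by_contra hno
  push Not at hno
  have hz : IsPGroup 2 (Subgroup.zpowers d) :=
    IsPGroup.of_card (n := 1) (by rw [Nat.card_zpowers, hd, pow_one])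
  obtain ⟨T, hT⟩ := hz.exists_le_sylow
  have hdT : d ∈ (T : Subgroup G) := hT (Subgroup.mem_zpowers d)
  haveI : Nontrivial (T : Subgroup G) := ⟨⟨⟨d, hdT⟩, 1, fun e => by
    have e' : d = 1 := congrArg Subtype.val e
    rw [e', orderOf_one] at hd; omega⟩⟩
  haveI := T.isPGroup'.center_nontrivial
  obtain ⟨k, hk0, hk⟩ := (T.isPGroup'.to_subgroup (Subgroup.center _)).nontrivial_iff_card.1 inferInstance
  obtain ⟨z, hz2⟩ := exists_prime_orderOf_dvd_card' (G := Subgroup.center (T : Subgroup G)) 2
    (hk ▸ dvd_pow_self 2 (by omega))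
  have hz' : orderOf ((z : (T : Subgroup G)) : G) = 2 := by
    rw [Subgroup.orderOf_coe, Subgroup.orderOf_coe, hz2]
  have hzc : ∀ t : (T : Subgroup G), Commute ((z : (T : Subgroup G)) : G) (t : G) := fun t =>
    (congrArg Subtype.val (Subgroup.mem_center_iff.1 z.2 t)).symm
  have hzd : ((z : (T : Subgroup G)) : G) = d := by
    by_contra hne
    exact hno _ hz' hne (hzc ⟨d, hdT⟩)
  refine false_of_unique_involution hs T hd hdT fun t ht ht2 => ?_
  by_contra hne
  exact hno t ht2 hne (by rw [← hzd]; exact (hzc ⟨t, ht⟩).symm)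

end Cfsg.Agent.FrobSystem
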